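import Mathlib

/-!
# S4929: arithmetic for `PΩ⁻_{2m}(q)` (helper926)

`arith` : the primes dividing `|PΩ⁻_{2m}(q)|` and no `q^i - 1`, `i < m`.
-/

set_option autoImplicit false

namespace Cfsg.Agent.H926.EP

variable {p q m : ℕ}

theorem dvd_iff_orderOf (hq : 1 ≤ q) (i : ℕ) [Fact p.Prime] : p ∣ q ^ i - 1 ↔ orderOf ((q : ℕ) : ZMod p) ∣ i := by
  rw [orderOf_dvd_iff_pow_eq_one, ← Nat.cast_pow, ← CharP.cast_eq_zero_iff (ZMod p) p,
    Nat.cast_sub (Nat.one_le_pow _ _ hq), sub_eq_zero, Nat.cast_one]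

/-- the primes dividing `|PΩ⁻_{2m}(q)|` and no `q^i - 1`, `i < m` -/
theorem arith [Fact p.Prime] (hq : 2 ≤ q) (hp2 : p ≠ 2) (hpq : ¬ p ∣ q) (hm : 1 ≤ m)
    (h : ∀ i, 0 < i → i ≤ m - 1 → ¬ p ∣ q ^ i - 1)
    (hd : p ∣ q ^ (m * (m - 1)) * (q ^ m + 1) * ∏ i ∈ Finset.range (m - 1), (q ^ (2 * (i + 1)) - 1)) :
    ∃ e, 1 ≤ e ∧ e ≤ m ∧ m ≤ 2 * e ∧ p ∣ q ^ e + 1 ∧ orderOf ((q : ℕ) : ZMod p) = 2 * e ∧
      ∀ j, p ∣ q ^ j - 1 ↔ 2 * e ∣ j := by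
  have hp : p.Prime := Fact.out
  have h1 : ∃ e, 1 ≤ e ∧ e ≤ m ∧ p ∣ q ^ e + 1 := by
    rcases (hp.dvd_mul.1 hd) with h2 | h2
    · rcases hp.dvd_mul.1 h2 with h3 | h3
      · exact absurd (hp.dvd_of_dvd_pow h3) hpq
      · exact ⟨m, hm, le_rfl, h3⟩
    · obtain ⟨i, hi, h3⟩ := (hp.prime.dvd_finsetProd_iff _).1 h2
      rw [Finset.mem_range] at hi
      have h4 : q ^ (2 * (i + 1)) - 1 = (q ^ (i + 1) + 1) * (q ^ (i + 1) - 1) := by
        rw [two_mul, pow_add, ← Nat.sq_sub_sq, ← sq, one_pow]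
      rw [h4] at h3
      rcases hp.dvd_mul.1 h3 with h5 | h5
      · exact ⟨i + 1, by omega, by omega, h5⟩
      · exact absurd h5 (h (i + 1) (by omega) (by omega))
  obtain ⟨e, he1, hem, hpe⟩ := h1
  have hiff := fun j => dvd_iff_orderOf (p := p) (q := q) (by omega) j
  obtain ⟨d, hd'⟩ : ∃ d, d = orderOf ((q : ℕ) : ZMod p) := ⟨_, rfl⟩
  rw [← hd'] at hiff
  have he2 : p ∣ q ^ (2 * e) - 1 := by
    have h4 : q ^ (2 * e) - 1 = (q ^ e + 1) * (q ^ e - 1) := by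
      rw [two_mul, pow_add, ← Nat.sq_sub_sq, ← sq, one_pow]
    rw [h4]
    exact Dvd.dvd.mul_right hpe _
  have hde : ¬ d ∣ e := by
    intro h5
    have h6 := (hiff e).2 h5
    have h7 : 1 ≤ q ^ e := Nat.one_le_pow _ _ (by omega)
    have h8 : q ^ e + 1 = (q ^ e - 1) + 2 := by omega
    rw [h8] at hpe
    have h9 := (Nat.dvd_add_right h6).1 hpe
    exact hp2 ((Nat.prime_dvd_prime_iff_eq hp Nat.prime_two).1 h9)
  have hd2 : d ∣ 2 * e := (hiff _).1 he2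
  have hd0 : 0 < d := Nat.pos_of_dvd_of_pos hd2 (by omega)
  have hdm : m ≤ d := by
    by_contra hlt
    exact h d hd0 (by omega) ((hiff d).2 dvd_rfl)
  obtain ⟨k, hk⟩ := hd2
  have hk2 : k = 1 := by
    rcases Nat.lt_or_ge k 3 with h3 | h3
    · interval_cases k
      · omega
      · rfl
      · exfalso
        apply hde
        rw [show e = d by omega]
    · exfalso
      have : m * 3 ≤ d * k := Nat.mul_le_mul hdm h3
      omega
  subst hk2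
  rw [mul_one] at hk
  refine ⟨e, he1, hem, by omega, hpe, by rw [← hd', hk], fun j => ?_⟩
  rw [hiff, hk]

end Cfsg.Agent.H926.EP
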