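import Mathlib

/-!
# S4929: an irreducible matrix over the field with `q` elements is similar to its `q`-th power (helper926)
-/

set_option autoImplicit false

namespace Cfsg.Agent.H926.EP

open Polynomial

section

variable {F : Type*} [Field F] [Fintype F] {V : Type*} [AddCommGroup V] [Module F V] [FiniteDimensional F V]

/-- an irreducible linear map is similar to its `q`-th power -/
theorem exists_frob {x : Module.End F V} {v₀ : V} (hv₀ : v₀ ≠ 0)
    (hirr : ∀ U : Submodule F V, (∀ u ∈ U, x u ∈ U) → U = ⊥ ∨ U = ⊤) :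
    ∃ h : V ≃ₗ[F] V, ∀ v, h (x v) = (x ^ Fintype.card F) (h v) := by
  -- the cyclic module
  let ψ : F[X] →ₗ[F] V := (LinearMap.applyₗ v₀).comp (aeval x).toLinearMap
  have hψ : ∀ f, ψ f = aeval x f v₀ := fun f => rfl
  have hsurj : Function.Surjective ψ := by
    rw [← LinearMap.range_eq_top]
    refine (hirr (LinearMap.range ψ) ?_).resolve_left ?_
    · rintro _ ⟨f, rfl⟩
      refine ⟨X * f, ?_⟩
      rw [hψ, hψ, map_mul, aeval_X]
      rfl
    · intro h0
      have h1 : ψ 1 ∈ LinearMap.range ψ := ⟨1, rfl⟩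
      rw [h0, Submodule.mem_bot, hψ, map_one] at h1
      exact hv₀ h1
  have hinj : ∀ f : F[X], ψ f ≠ 0 → Function.Injective (aeval x f) := by
    intro f hf
    rw [← LinearMap.ker_eq_bot]
    refine (hirr (LinearMap.ker (aeval x f)) ?_).resolve_right ?_
    · intro u hu
      rw [LinearMap.mem_ker] at hu ⊢
      have h1 : aeval x f (x u) = x (aeval x f u) := by
        have h2 : aeval x (f * X) = aeval x (X * f) := by rw [mul_comm]
        rw [map_mul, map_mul, aeval_X] at h2
        exact congrArg (fun g : Module.End F V => g u) h2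
      rw [h1, hu, map_zero]
    · intro h0
      apply hf
      have h1 : v₀ ∈ LinearMap.ker (aeval x f) := by rw [h0]; trivial
      exact h1
  let fr : F[X] →ₗ[F] F[X] := (FiniteField.frobeniusAlgHom F F[X]).toLinearMap
  have hfr : ∀ f, fr f = f ^ Fintype.card F := fun f => rfl
  have hpow : ∀ (n : ℕ) (f : F[X]), ψ f = 0 → 0 < n → ψ (f ^ n) = 0 := by
    intro n f hf hn
    obtain ⟨k, rfl⟩ : ∃ k, n = k + 1 := ⟨n - 1, by omega⟩
    rw [hψ] at hf ⊢
    rw [pow_succ, map_mul, Module.End.mul_apply, hf, map_zero]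
  have hker : LinearMap.ker ψ ≤ LinearMap.ker (ψ.comp fr) := by
    intro f hf
    rw [LinearMap.mem_ker] at hf ⊢
    rw [LinearMap.comp_apply, hfr]
    exact hpow _ _ hf Fintype.card_pos
  let e := ψ.quotKerEquivOfSurjective hsurj
  let h : V →ₗ[F] V := ((LinearMap.ker ψ).liftQ (ψ.comp fr) hker).comp e.symm.toLinearMap
  have he : ∀ f, e.symm (ψ f) = Submodule.Quotient.mk f := by
    intro f
    rw [LinearEquiv.symm_apply_eq]
    rfl
  have hh : ∀ f, h (ψ f) = ψ (f ^ Fintype.card F) := by
    intro f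
    change (LinearMap.ker ψ).liftQ (ψ.comp fr) hker (e.symm (ψ f)) = _
    rw [he]
    rfl
  have hi : Function.Injective h := by
    rw [← LinearMap.ker_eq_bot, LinearMap.ker_eq_bot']
    intro v hv
    obtain ⟨f, rfl⟩ := hsurj v
    rw [hh] at hv
    by_contra hf
    have h1 := hinj f hf
    have h2 : ∀ n : ℕ, Function.Injective (aeval x (f ^ n)) := by
      intro n
      rw [map_pow]
      induction n with
      | zero => exact fun a b hab => hab
      | succ n ih =>
        rw [pow_succ]
        exact ih.comp h1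
    apply hv₀
    apply h2 (Fintype.card F)
    rw [map_zero]
    exact hv
  refine ⟨LinearEquiv.ofInjectiveEndo h hi, fun v => ?_⟩
  obtain ⟨f, rfl⟩ := hsurj v
  change h (x (ψ f)) = (x ^ Fintype.card F) (h (ψ f))
  have h1 : x (ψ f) = ψ (X * f) := by
    rw [hψ, hψ, map_mul, aeval_X]
    rfl
  rw [h1, hh, hh, mul_pow, hψ, hψ, map_mul, map_pow, aeval_X]
  rfl

end

end Cfsg.Agent.H926.EP
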