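import Cfsg.Agent.H926.EP.NoEig
import Cfsg.Agent.H926.EP.FrobConj
import Cfsg.Agent.H501.RowOmega
import Cfsg.Agent.ClassicalGeometry.OmegaIndex

/-!
# S4929: real elements of order `p` in `Ω_{2m}(q)`, `ord_p(q) = 2m`, `m` even (helper926)

`real_top_even` : an element `x` of order `p` is conjugate to `x^{q^{m/2}}` in the isometry group, hence inverted by a
square.
-/

set_option autoImplicit false

namespace Cfsg.Agent.H926.EP

open Module QuadraticMap Cfsg.Agent.H124.LinCyc Cfsg.Agent.H501.RowOmega Cfsg.Agent.H722.RealP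
open Cfsg.Agent.H501.RealGen Cfsg.Agent.ClassicalGeometry.OmegaIndex Cfsg.Agent.ClassicalGeometry.SpinorSign

section

variable {F : Type*} [Field F] [Fintype F] {ι : Type*} [Fintype ι] [DecidableEq ι] {p D : ℕ} [hp : Fact p.Prime]

/-- irreducibility in dimension `ord_p(q)` -/
theorem irr_of_order (hD : 0 < D) (hiff : ∀ j, p ∣ Fintype.card F ^ j - 1 ↔ D ∣ j) (hι : Fintype.card ι = D)
    {y : Matrix ι ι F} (hy : y ^ p = 1) (hy1 : y ≠ 1) (U : Submodule F (ι → F)) (hU : ∀ u ∈ U, y.mulVec u ∈ U) :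
    U = ⊥ ∨ U = ⊤ := by
  obtain ⟨u, hu⟩ : IsUnit y := IsUnit.of_pow_eq_one hy hp.out.ne_zero
  let τ : Matrix.GeneralLinearGroup ι F ≃* ((ι → F) ≃ₗ[F] (ι → F)) :=
    Matrix.GeneralLinearGroup.toLin.trans (LinearMap.GeneralLinearGroup.generalLinearEquiv F (ι → F))
  let σ : Subgroup.zpowers u →* ((ι → F) ≃ₗ[F] (ι → F)) := τ.toMonoidHom.comp (Subgroup.zpowers u).subtype
  have happ : ∀ (g : Matrix.GeneralLinearGroup ι F) (v : ι → F), τ g v = (g : Matrix ι ι F).mulVec v := fun g v => rfl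
  have hup : u ^ p = 1 := by
    apply Units.ext
    rw [Units.val_pow_eq_pow_val, hu, hy, Units.val_one]
  have hP : IsPGroup p (Subgroup.zpowers u) := by
    rintro ⟨_, k, rfl⟩
    refine ⟨1, Subtype.ext ?_⟩
    change (u ^ k) ^ p ^ 1 = 1
    rw [pow_one, ← zpow_natCast, zpow_comm, zpow_natCast, hup, one_zpow]
  have hpow : ∀ n : ℕ, ∀ w ∈ U, τ (u ^ n) w ∈ U := by
    intro n
    induction n with
    | zero => intro w hw; rw [pow_zero, map_one]; exact hw
    | succ n ih =>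
      intro w hw
      rw [pow_succ, map_mul]
      apply ih
      change τ u w ∈ U
      rw [happ, hu]
      exact hU w hw
  have hinv : ∀ a : Subgroup.zpowers u, ∀ w ∈ U, σ a w ∈ U := by
    rintro ⟨a, ha⟩ w hw
    have hfo : IsOfFinOrder u := isOfFinOrder_iff_pow_eq_one.2 ⟨p, hp.out.pos, hup⟩
    obtain ⟨n, rfl⟩ := (hfo.mem_powers_iff_mem_zpowers).2 ha
    exact hpow n w hw
  have h1 := dvd_sub hD hiff hP (restr σ U hinv)
  have h2 : fix (restr σ U hinv) = ⊥ := by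
    rw [eq_bot_iff]
    intro w hw
    rw [Submodule.mem_bot]
    apply Subtype.ext
    have h3 := congrArg Subtype.val (hw ⟨u, Subgroup.mem_zpowers u⟩)
    rw [restr_apply] at h3
    refine no_fix (y := y) (a := 1) hD hiff hι (by rw [pow_one]; exact hy) hy1 ?_
    rw [← hu]
    exact h3
  rw [h2, finrank_bot, Nat.sub_zero] at h1
  have h3 : finrank F U ≤ D := by
    rw [← hι, ← Module.finrank_fintype_fun_eq_card F]
    exact Submodule.finrank_le _
  rcases Nat.eq_zero_or_pos (finrank F U) with h4 | h4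
  · exact Or.inl (Submodule.finrank_eq_zero.1 h4)
  · right
    apply Submodule.eq_top_of_finrank_eq
    rw [Module.finrank_fintype_fun_eq_card, hι]
    exact le_antisymm h3 (Nat.le_of_dvd h4 h1)

/-- similarity with the `q`-th power -/
theorem isConj_frob (hD : 0 < D) (hiff : ∀ j, p ∣ Fintype.card F ^ j - 1 ↔ D ∣ j) (hι : Fintype.card ι = D)
    {y : Matrix ι ι F} (hy : y ^ p = 1) (hy1 : y ≠ 1) : IsConj y (y ^ Fintype.card F) := by
  have hne : Nonempty ι := by
    rw [← Fintype.card_pos_iff]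
    omega
  obtain ⟨v₀, hv₀⟩ : ∃ v₀ : ι → F, v₀ ≠ 0 := exists_ne 0
  obtain ⟨h, hh⟩ := exists_frob (x := Matrix.toLin' y) hv₀ (fun U hU => irr_of_order hD hiff hι hy hy1 U
    (fun u hu => by
      have := hU u hu
      rwa [Matrix.toLin'_apply] at this))
  let c : Matrix.GeneralLinearGroup ι F :=
    ⟨LinearMap.toMatrix' (h : (ι → F) →ₗ[F] (ι → F)), LinearMap.toMatrix' (h.symm : (ι → F) →ₗ[F] (ι → F)), by
      rw [← LinearMap.toMatrix'_comp, LinearEquiv.comp_coe, LinearEquiv.symm_trans_self]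
      exact LinearMap.toMatrix'_id, by
      rw [← LinearMap.toMatrix'_comp, LinearEquiv.comp_coe, LinearEquiv.self_trans_symm]
      exact LinearMap.toMatrix'_id⟩
  refine ⟨c, ?_⟩
  change LinearMap.toMatrix' (h : (ι → F) →ₗ[F] (ι → F)) * y =
    y ^ Fintype.card F * LinearMap.toMatrix' (h : (ι → F) →ₗ[F] (ι → F))
  apply Matrix.toLin'.injective
  rw [Matrix.toLin'_mul, Matrix.toLin'_mul, Matrix.toLin'_toMatrix', Matrix.toLin'_pow]
  exact LinearMap.ext fun v => hh v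

theorem isConj_frob_pow (hD : 0 < D) (hiff : ∀ j, p ∣ Fintype.card F ^ j - 1 ↔ D ∣ j) (hι : Fintype.card ι = D)
    {y : Matrix ι ι F} (hy : y ^ p = 1) (hy1 : y ≠ 1) (k : ℕ) : IsConj y (y ^ Fintype.card F ^ k) := by
  induction k with
  | zero => rw [pow_zero, pow_one]
  | succ k ih =>
    obtain ⟨c, hc⟩ := isConj_frob hD hiff hι hy hy1
    refine ih.trans ⟨c, ?_⟩
    rw [pow_succ', pow_mul]
    exact hc.pow_right _

end

section

variable {F : Type*} [Field F] [Fintype F] {ι : Type} [Fintype ι] [DecidableEq ι] {p : ℕ} [hp : Fact p.Prime]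
  {Q : QuadraticForm F (ι → F)}

/-- squares of isometries are in `Ω` -/
theorem sq_mem_Omega (h2 : (2 : F) ≠ 0) (hQ : (polarBilin Q).Nondegenerate) (hn : 2 ≤ Fintype.card ι)
    (g : Cfsg.isometryGroup F ⇑Q) : g * g ∈ Cfsg.Omega F ⇑Q := by
  rw [mem_Omega_iff h2 Q hQ hn one_ne_zero]
  refine ⟨?_, by rw [map_mul]; exact Int.units_mul_self _⟩
  obtain ⟨c, hc⟩ := similar_inv Q hQ g
  have h3 : (mt g).det = (mt g⁻¹).det := by
    have h4 := congrArg Matrix.det (show (c : Matrix ι ι F) * mt g = mt g⁻¹ * c from hc)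
    rw [Matrix.det_mul, Matrix.det_mul, mul_comm (mt g⁻¹).det] at h4
    exact (Matrix.GeneralLinearGroup.det c).isUnit.mul_left_cancel h4
  change (mt (g * g)).det = 1
  rw [mt_mul, Matrix.det_mul]
  nth_rewrite 2 [h3]
  rw [← Matrix.det_mul, ← mt_mul, mul_inv_cancel, mt_one, Matrix.det_one]

/-- **real elements**, `ord_p(q) = 4k = dim V` -/
theorem real_top_even (h2 : (2 : F) ≠ 0) (hQ : (polarBilin Q).Nondegenerate) (hp2 : p ≠ 2)
    (hpF : ¬ p ∣ Nat.card F) {k : ℕ} (hk : 0 < k) (hι : Fintype.card ι = 2 * (2 * k))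
    (hiff : ∀ j, p ∣ Fintype.card F ^ j - 1 ↔ 2 * (2 * k) ∣ j) (hpq : p ∣ Fintype.card F ^ (2 * k) + 1)
    {x : Cfsg.Omega F ⇑Q} (hx : x ^ p = 1) (hx1 : x ≠ 1) : HasReal p (Cfsg.Omega F ⇑Q) := by
  have hx' : x.1 ^ p = 1 := congrArg Subtype.val hx
  have hmx : mt x.1 ^ p = 1 := by rw [← mt_pow, hx', mt_one]
  have hmx1 : mt x.1 ≠ 1 := by
    intro h
    apply hx1
    apply Subtype.ext
    apply mt_inj
    rw [h]
    exact mt_one.symm
  have h3 : IsConj x.1 (x.1 ^ Fintype.card F ^ k) := by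
    rw [Cfsg.Agent.H193.OrthConj.isConj_iff Q hQ _ _ (hp.out.odd_of_ne_two hp2) (natCast_ne_zero hp.out hpF) hx'
      (by rw [← pow_mul, mul_comm, pow_mul, hx', one_pow])]
    have h4 := isConj_frob_pow (by omega) hiff hι hmx hmx1 k
    rw [← mt_pow] at h4
    exact h4
  obtain ⟨g, hg⟩ := isConj_iff.1 h3
  have hpp : ∀ n : ℕ, g * x.1 ^ n * g⁻¹ = x.1 ^ (Fintype.card F ^ k * n) := by
    intro n
    rw [← conj_pow, hg, ← pow_mul]
  have h5 : (g * g) * x.1 * (g * g)⁻¹ = x.1⁻¹ := by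
    have e : (g * g) * x.1 * (g * g)⁻¹ = g * (g * x.1 * g⁻¹) * g⁻¹ := by group
    rw [e, hg, hpp, ← pow_add, ← two_mul]
    rw [eq_inv_iff_mul_eq_one, ← pow_succ]
    obtain ⟨c, hc⟩ := hpq
    rw [hc, pow_mul, hx', one_pow]
  refine hasReal_of_conj hp.out hx hx1 (isConj_iff.2 ⟨⟨g * g, sq_mem_Omega h2 hQ (by omega) g⟩, ?_⟩)
  exact Subtype.ext h5

end

end Cfsg.Agent.H926.EP
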