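import Cfsg.Agent.H926.EP.EvenTop
import Cfsg.Agent.H892.EP.Rows

/-!
# S4929: Sylow `p`-subgroups of orthogonal groups which fix a singular vector, `dim V ≤ 2 ord_p(q)` (helper926)

* `exists_fixed` : a fixed singular vector;
* `cyclic_of_fixed` : the Sylow subgroup is cyclic;
* `evAt_of_omega` : real elements of order `p` and cyclic Sylow `p`-subgroups of `Ω`.
-/

set_option autoImplicit false

namespace Cfsg.Agent.H926.EP

open Module QuadraticMap Matrix Cfsg.Agent.H124.LinCyc Cfsg.Agent.H501.RowOmega Cfsg.Agent.H722.RealP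
open Cfsg.Agent.H501.RealGen Cfsg.Agent.H892.EP

section

variable {F : Type*} [Field F] [Fintype F] {ι : Type} [Fintype ι] [DecidableEq ι] {p D : ℕ} [hp : Fact p.Prime]
  {Q : QuadraticForm F (ι → F)}

/-- a `p`-group of isometries fixes a nonzero singular vector if the number of singular vectors is not `1` modulo `p` -/
theorem exists_fixed (P : Subgroup (Cfsg.isometryGroup F ⇑Q)) (hP : IsPGroup p P)
    (hcard : ¬ Nat.card {v : ι → F // Q v = 0} ≡ 1 [MOD p]) :
    ∃ v : ι → F, v ≠ 0 ∧ Q v = 0 ∧ ∀ g ∈ P, mt g *ᵥ v = v := by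
  let act : MulAction P {v : ι → F // Q v = 0} :=
    { smul := fun g v => ⟨mt g.1 *ᵥ v.1, by rw [isom]; exact v.2⟩
      one_smul := fun v => Subtype.ext (by
        change mt (1 : Cfsg.isometryGroup F ⇑Q) *ᵥ v.1 = v.1
        rw [mt_one, Matrix.one_mulVec])
      mul_smul := fun g h v => Subtype.ext (by
        change mt (g.1 * h.1) *ᵥ v.1 = mt g.1 *ᵥ (mt h.1 *ᵥ v.1)
        rw [mt_mul, Matrix.mulVec_mulVec]) }
  have h1 := hP.card_modEq_card_fixedPoints {v : ι → F // Q v = 0}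
  by_contra hcon
  push Not at hcon
  apply hcard
  have h2 : Nat.card (MulAction.fixedPoints P {v : ι → F // Q v = 0}) = 1 := by
    rw [Nat.card_eq_one_iff_unique]
    refine ⟨⟨?_⟩, ⟨⟨⟨0, QuadraticMap.map_zero Q⟩, fun g => Subtype.ext (Matrix.mulVec_zero _)⟩⟩⟩
    have key : ∀ v : MulAction.fixedPoints P {v : ι → F // Q v = 0}, v.1.1 = 0 := by
      rintro ⟨⟨v, hv⟩, hf⟩
      by_contra hv0
      obtain ⟨g, hg, hgv⟩ := hcon v hv0 hv
      exact hgv (congrArg Subtype.val (hf ⟨g, hg⟩))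
    intro v w
    exact Subtype.ext (Subtype.ext ((key v).trans (key w).symm))
  rw [h2] at h1
  exact h1

/-- **cyclic** -/
theorem cyclic_of_fixed (hQ : (polarBilin Q).Nondegenerate) (hp2 : p ≠ 2) (hD : 2 ≤ D)
    (hiff : ∀ j, p ∣ Fintype.card F ^ j - 1 ↔ D ∣ j) (hι : Fintype.card ι ≤ 2 * D)
    (P : Subgroup (Cfsg.isometryGroup F ⇑Q)) (hP : IsPGroup p P) {v : ι → F} (hv0 : v ≠ 0)
    (hv : ∀ g ∈ P, mt g *ᵥ v = v) : IsCyclic P := by
  have hfin : Finite (Cfsg.isometryGroup F ⇑Q) := Subtype.finite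
  let τ : Matrix.GeneralLinearGroup ι F ≃* ((ι → F) ≃ₗ[F] (ι → F)) :=
    Matrix.GeneralLinearGroup.toLin.trans (LinearMap.GeneralLinearGroup.generalLinearEquiv F (ι → F))
  let σ : P →* ((ι → F) ≃ₗ[F] (ι → F)) := τ.toMonoidHom.comp ((Cfsg.isometryGroup F ⇑Q).subtype.comp P.subtype)
  have happ : ∀ (g : P) (w : ι → F), σ g w = mt g.1 *ᵥ w := fun g w => rfl
  let U : Submodule F (ι → F) := LinearMap.ker (polarBilin Q v)
  have hUmem : ∀ w, w ∈ U ↔ polar ⇑Q v w = 0 := fun w => Iff.rfl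
  have hne : polarBilin Q v ≠ 0 := by
    intro h0
    apply hv0
    refine hQ.1 v fun w => ?_
    rw [h0]
    rfl
  have hcard : finrank F U + finrank F (LinearMap.range (polarBilin Q v)) = Fintype.card ι := by
    rw [add_comm, LinearMap.finrank_range_add_finrank_ker, Module.finrank_fintype_fun_eq_card]
  have hr : finrank F (LinearMap.range (polarBilin Q v)) = 1 := by
    have h1 : LinearMap.range (polarBilin Q v) = ⊤ := by
      rw [LinearMap.range_eq_top]
      obtain ⟨w, hw⟩ : ∃ w, polarBilin Q v w ≠ 0 := by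
        by_contra hcon
        push Not at hcon
        exact hne (LinearMap.ext hcon)
      intro c
      refine ⟨(c * (polarBilin Q v w)⁻¹) • w, ?_⟩
      rw [map_smul, smul_eq_mul, mul_assoc, inv_mul_cancel₀ hw, mul_one]
    rw [h1, finrank_top, Module.finrank_self]
  have hinv : ∀ g : P, ∀ u ∈ U, σ g u ∈ U := by
    intro g u hu
    rw [hUmem] at hu ⊢
    rw [happ]
    have h1 := hv g.1 g.2
    conv_lhs => rw [← h1]
    rw [isom_polar]
    exact hu
  refine isCyclic_of_small (V := U) (e := D) hp2 (by omega) hiff (by omega) hP (restr σ U hinv) ?_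
  rw [injective_iff_map_eq_one]
  intro g hg
  obtain ⟨a, ha⟩ := hP g
  have hy : mt g.1 ^ p ^ a = 1 := by
    rw [← mt_pow]
    have : g.1 ^ p ^ a = 1 := congrArg Subtype.val ha
    rw [this, mt_one]
  have h1 := fix_dvd (by omega) hiff hy
  have h2 : U ≤ LinearMap.ker (Matrix.toLin' (mt g.1) - 1) := by
    intro u hu
    rw [mem_fix]
    have h3 : ((restr σ U hinv g ⟨u, hu⟩ : U) : ι → F) = u := by rw [hg]; rfl
    rw [restr_apply, happ] at h3
    exact h3
  have h3 := Submodule.finrank_mono h2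
  have h4 : finrank F (LinearMap.ker (Matrix.toLin' (mt g.1) - 1)) ≤ Fintype.card ι := by
    rw [← Module.finrank_fintype_fun_eq_card F]
    exact Submodule.finrank_le _
  have h5 := Nat.eq_zero_of_dvd_of_lt h1 (by omega)
  have h6 : LinearMap.ker (Matrix.toLin' (mt g.1) - 1) = ⊤ := by
    apply Submodule.eq_top_of_finrank_eq
    rw [Module.finrank_fintype_fun_eq_card]
    omega
  rw [LinearMap.ker_eq_top, sub_eq_zero] at h6
  apply Subtype.ext
  apply mt_inj
  apply Matrix.toLin'.injective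
  rw [h6]
  exact (Matrix.toLin'_one).symm

/-- **real**, an element with a fixed vector -/
theorem real_low (hQ : (polarBilin Q).Nondegenerate) (hp2 : p ≠ 2) (hpF : ¬ p ∣ Nat.card F) (hD : 0 < D)
    (hiff : ∀ j, p ∣ Fintype.card F ^ j - 1 ↔ D ∣ j) (hι : Fintype.card ι ≤ 2 * D) (hι2 : D + 2 ≤ Fintype.card ι)
    (hn : 4 < Fintype.card ι) {x : Cfsg.Omega F ⇑Q} (hx : x ^ p = 1) (hx1 : x ≠ 1) {v : ι → F} (hv0 : v ≠ 0)
    (hv : mt x.1 *ᵥ v = v) : HasReal p (Cfsg.Omega F ⇑Q) := by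
  have hx' : x.1 ^ p = 1 := congrArg Subtype.val hx
  have hy : mt x.1 ^ p ^ 1 = 1 := by rw [pow_one, ← mt_pow, hx', mt_one]
  refine real_of_fix Q hQ hn hp.out hp2 hpF hx hx1 hv0 hv fun _ => ?_
  obtain ⟨n, hn'⟩ : ∃ n, n = finrank F (LinearMap.ker (Matrix.toLin' (mt x.1) - 1)) := ⟨_, rfl⟩
  have h1 : D ∣ Fintype.card ι - n := by rw [hn']; exact fix_dvd hD hiff hy
  suffices h : 2 ≤ n by rw [hn'] at h; exact h
  have h2 : 0 < n := by
    rw [hn', Module.finrank_pos_iff]
    exact ⟨⟨⟨v, mem_fix.2 hv⟩, 0, fun h => hv0 (congrArg Subtype.val h)⟩⟩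
  by_contra hlt
  obtain ⟨c, hc⟩ := h1
  rcases Nat.lt_or_ge c 2 with h3 | h3
  · interval_cases c <;> omega
  · have : D * 2 ≤ D * c := Nat.mul_le_mul_left _ h3
    omega

end

section

variable {F : Type} [Field F] [Fintype F] {ι : Type} [Fintype ι] [DecidableEq ι] {p : ℕ} [hp : Fact p.Prime]

/-- from `Ω` to `PΩ` -/
theorem evAt_of_omega {Q : (ι → F) → F} (hp2 : p ≠ 2) (h : HasReal p (Cfsg.Omega F Q))
    (hc : ∀ P : Sylow p (Cfsg.Omega F Q), IsCyclic (P : Subgroup (Cfsg.Omega F Q))) :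
    EvAt p (Cfsg.POmega F Q) := by
  have hfin : Finite (Cfsg.Omega F Q) := inferInstance
  have hfinP : Finite (Cfsg.POmega F Q) := inferInstance
  obtain ⟨z, hz, hzr⟩ := (HasReal.quot hp.out hp2 (Subgroup.center (Cfsg.Omega F Q)) le_rfl h).isConj
  refine evAt_of_real_cyclic hp2 (fun P => ?_) hz hzr
  obtain ⟨S⟩ : Nonempty (Sylow p (Cfsg.Omega F Q)) := inferInstance
  have hS := hc S
  have hπ : Function.Surjective (QuotientGroup.mk' (Subgroup.center (Cfsg.Omega F Q))) := QuotientGroup.mk'_surjective _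
  have h1 : IsCyclic (S.mapSurjective hπ : Subgroup (Cfsg.POmega F Q)) := by
    have h2 : ((S.mapSurjective hπ : Sylow p (Cfsg.POmega F Q)) : Subgroup (Cfsg.POmega F Q)) =
      (S : Subgroup (Cfsg.Omega F Q)).map (QuotientGroup.mk' (Subgroup.center (Cfsg.Omega F Q))) := rfl
    rw [h2]
    exact isCyclic_of_surjective ((QuotientGroup.mk' (Subgroup.center (Cfsg.Omega F Q))).subgroupMap
      (S : Subgroup (Cfsg.Omega F Q))) (MonoidHom.subgroupMap_surjective _ _)
  exact isCyclic_of_surjective ((S.mapSurjective hπ).equiv P).toMonoidHom ((S.mapSurjective hπ).equiv P).surjective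

end

end Cfsg.Agent.H926.EP
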