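import Cfsg.Agent.H926.EP.OddTop
import Cfsg.Agent.H926.EP.EvenTop
import Cfsg.Agent.H926.EP.Low
import Cfsg.Agent.H926.EP.Arith
import Cfsg.Agent.H948.OnCyc

/-!
# S4929: `PΩ⁻_{2m}(q)`, `q` odd, the primes `p` with `ord_p(q) ≥ m` (helper926)

`rest_ominus` : the principal `p`-block contains a character of even degree.
-/

set_option autoImplicit false

namespace Cfsg.Agent.H926.EP

open Module QuadraticMap Cfsg.Agent.H501.RowOmega Cfsg.Agent.H722.RealP Cfsg.Agent.H501.RealGen Cfsg.Agent.H892.EP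
open Cfsg.Agent.LieClassical.OrthForms Cfsg.Agent.H477.HC

variable {F : Type} [Field F] [Fintype F] {r : ℕ} [Fact r.Prime] [CharP F r] {p : ℕ} [Fact p.Prime]

theorem rest_ominus (hr : r ≠ 2) (hp2 : p ≠ 2) (hpr : p ≠ r) {m : ℕ} (hm : 4 ≤ m) (a b : F)
    (hab : ∀ z₁ z₂ : F, z₁ ^ 2 + a * z₁ * z₂ + b * z₂ ^ 2 = 0 → z₁ = 0 ∧ z₂ = 0)
    (hd : p ∣ Nat.card (POmega F (quadFormMinus (m - 1) F a b)))
    (h : ∀ i, 0 < i → i ≤ m - 1 → ¬ p ∣ Fintype.card F ^ i - 1) :
    EvAt p (POmega F (quadFormMinus (m - 1) F a b)) := by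
  have hp : p.Prime := Fact.out
  have hrp : r.Prime := Fact.out
  have hq2 : 2 ≤ Fintype.card F := Fintype.one_lt_card
  have hcd : Nat.card F = Fintype.card F := Nat.card_eq_fintype_card
  obtain ⟨f, -, hf⟩ := FiniteField.card F r
  have hpq : ¬ p ∣ Fintype.card F := by
    rw [hf]
    intro h1
    exact hpr ((Nat.prime_dvd_prime_iff_eq hp hrp).1 (hp.dvd_of_dvd_pow h1))
  have hpF : ¬ p ∣ Nat.card F := by rwa [hcd]
  have ho : Odd (Fintype.card F) := by
    rw [hf]
    exact (hrp.odd_of_ne_two hr).pow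
  have h2 : (2 : F) ≠ 0 := by
    intro h0
    have h1 : ((2 : ℕ) : F) = 0 := by exact_mod_cast h0
    rw [CharP.cast_eq_zero_iff F r] at h1
    exact hr ((Nat.prime_dvd_prime_iff_eq hrp Nat.prime_two).1 h1)
  obtain ⟨e, he1, hem, hme, hpe, hord, hiff⟩ := arith hq2 hp2 hpq (show 1 ≤ m by omega) h (by
    rw [← Cfsg.Agent.S0294.result (F := F) rfl m hm a b hab]
    exact Dvd.dvd.mul_left hd _)
  rcases Nat.lt_or_ge e m with hlt | hge
  swap
  · obtain rfl : e = m := le_antisymm hem hge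
    rcases Nat.even_or_odd e with hev | hodd
    swap
    · exact evAt_top_odd ho hm hodd a b hab hd hiff
    -- `m` even
    have hQ := Cfsg.Agent.H181.FormNondeg.minus_nondegenerate (e - 1) F a b hab
    have hι : Fintype.card ((Fin (e - 1) ⊕ Fin (e - 1)) ⊕ Fin 2) = 2 * e := by
      simp only [Fintype.card_sum, Fintype.card_fin]
      omega
    obtain ⟨k, hk⟩ := hev
    rw [← two_mul] at hk
    have hcyc := Cfsg.Agent.H948.OnCyc.cyc_of_small (quadFormMinus (e - 1) F a b) hp2 (e := 2 * e) (by omega) hord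
      (by rw [hι]; omega)
    rw [← coe_minusForm] at hd hcyc ⊢
    have hdO := dvd_omega hd
    have hfinO : Finite (Omega F ⇑(minusForm (e - 1) F a b)) := inferInstance
    have hfinP : Finite (POmega F ⇑(minusForm (e - 1) F a b)) := inferInstance
    obtain ⟨x, hx⟩ := exists_prime_orderOf_dvd_card' p hdO
    have hreal : HasReal p (Omega F ⇑(minusForm (e - 1) F a b)) :=
      real_top_even h2 hQ hp2 hpF (k := k) (by omega) (by rw [hι, hk]) (by rw [← hk]; exact hiff)
        (by rw [← hk]; exact hpe) (x := x) (by rw [← hx, pow_orderOf_eq_one]) (fun h1 => by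
          rw [h1, orderOf_one] at hx
          exact hp.one_lt.ne hx)
    obtain ⟨z, hz, hzr⟩ := (HasReal.quot hp hp2 (Subgroup.center (Omega F ⇑(minusForm (e - 1) F a b))) le_rfl
      hreal).isConj
    exact evAt_of_real_cyclic hp2 hcyc hz hzr
  -- `e < m`
  have hQ := Cfsg.Agent.H181.FormNondeg.minus_nondegenerate (m - 1) F a b hab
  have hι : Fintype.card ((Fin (m - 1) ⊕ Fin (m - 1)) ⊕ Fin 2) = 2 * m := by
    simp only [Fintype.card_sum, Fintype.card_fin]
    omega
  have hsing : ¬ Nat.card {v : (Fin (m - 1) ⊕ Fin (m - 1)) ⊕ Fin 2 → F // quadFormMinus (m - 1) F a b v = 0} ≡ 1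
      [MOD p] := by
    have h1 := Cfsg.Agent.S0290.result (F := F) rfl m (by omega) a b hab
    obtain ⟨n, rfl⟩ : ∃ n, m = n + 1 := ⟨m - 1, by omega⟩
    have h3 := num_minus hq2 n
    rw [Nat.add_sub_cancel] at h1
    rw [h3] at h1
    rw [show n + 1 - 1 = n from rfl, h1]
    intro h4
    have h5 : p ∣ (Fintype.card F ^ n - 1) * (Fintype.card F ^ (n + 1) + 1) := by
      have h6 := (Nat.modEq_iff_dvd' (Nat.le_add_left 1 _)).1 h4.symm
      rwa [Nat.add_sub_cancel] at h6
    rcases hp.dvd_mul.1 h5 with h6 | h6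
    · have h7 := Nat.le_of_dvd (by omega) ((hiff _).1 h6)
      omega
    · have h7 : p ∣ Fintype.card F ^ (2 * (n + 1)) - 1 := by
        rw [sq_sub']
        exact Dvd.dvd.mul_right h6 _
      have h8 := (hiff _).1 h7
      obtain ⟨c, hc⟩ := h8
      have h9 : c = 2 := by
        rcases Nat.lt_or_ge c 3 with h10 | h10
        · interval_cases c <;> omega
        · exfalso
          have : 2 * e * 3 ≤ 2 * e * c := Nat.mul_le_mul_left _ h10
          omega
      subst h9
      have h10 : p ∣ Fintype.card F ^ (n + 1) - 1 := (hiff _).2 (by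
        rw [show n + 1 = 2 * e by omega])
      have h11 : 1 ≤ Fintype.card F ^ (n + 1) := Nat.one_le_pow _ _ (by omega)
      have h12 : Fintype.card F ^ (n + 1) + 1 = (Fintype.card F ^ (n + 1) - 1) + 2 := by omega
      rw [h12] at h6
      exact hp2 ((Nat.prime_dvd_prime_iff_eq hp Nat.prime_two).1 ((Nat.dvd_add_right h10).1 h6))
  rw [← coe_minusForm] at hd hsing ⊢
  have hdO := dvd_omega hd
  have hfinO : Finite (Omega F ⇑(minusForm (m - 1) F a b)) := inferInstance
  -- a Sylow subgroup and its image in the isometry group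
  have hS : ∀ S : Sylow p (Omega F ⇑(minusForm (m - 1) F a b)), ∃ v : (Fin (m - 1) ⊕ Fin (m - 1)) ⊕ Fin 2 → F,
      v ≠ 0 ∧ minusForm (m - 1) F a b v = 0 ∧
      ∀ g ∈ (S : Subgroup (Omega F ⇑(minusForm (m - 1) F a b))).map
        (Omega F ⇑(minusForm (m - 1) F a b)).subtype, (mt g).mulVec v = v := fun S =>
    exists_fixed _ (S.isPGroup'.map _) hsing
  refine evAt_of_omega hp2 ?_ (fun S => ?_)
  · obtain ⟨S⟩ : Nonempty (Sylow p (Omega F ⇑(minusForm (m - 1) F a b))) := inferInstance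
    obtain ⟨v, hv0, -, hv⟩ := hS S
    have hdS : p ∣ Nat.card (S : Subgroup (Omega F ⇑(minusForm (m - 1) F a b))) := S.dvd_card_of_dvd_card hdO
    obtain ⟨x, hx⟩ := exists_prime_orderOf_dvd_card' p hdS
    refine real_low hQ hp2 hpF (D := 2 * e) (by omega) hiff (by rw [hι]; omega) (by rw [hι]; omega)
      (by rw [hι]; omega) (x := x.1) ?_ ?_ hv0 (hv _ ⟨x.1, x.2, rfl⟩)
    · have h1 := pow_orderOf_eq_one x.1
      rwa [Subgroup.orderOf_coe, hx] at h1
    · intro h1
      rw [← Subgroup.orderOf_coe, h1, orderOf_one] at hx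
      exact hp.one_lt.ne hx
  · obtain ⟨v, hv0, -, hv⟩ := hS S
    have h1 := cyclic_of_fixed hQ hp2 (D := 2 * e) (by omega) hiff (by rw [hι]; omega) _ (S.isPGroup'.map _) hv0 hv
    have e2 := (S : Subgroup (Omega F ⇑(minusForm (m - 1) F a b))).equivMapOfInjective
      (Omega F ⇑(minusForm (m - 1) F a b)).subtype (Subgroup.subtype_injective _)
    exact isCyclic_of_surjective e2.symm.toMonoidHom e2.symm.surjective

end Cfsg.Agent.H926.EP
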