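import Cfsg.Agent.H926.EP.OddTop
import Cfsg.Agent.H113.PSU.Chars
import Cfsg.Agent.S0280

/-!
# S4929: `PSU_4(q)`, `p ∣ q^3 + 1` (helper926)

`psu_four_chars` : irreducible characters `η₁`, `η₂` of `PSU_4(q)` of degrees `q² (q² + 1)` and `q³ (q² - q + 1)`,
`1 + η₁ + η₂ = 0` at the elements which fix no isotropic point; `evAt_psu4` : the first is `-1` at the `p`-singular
elements.
-/

set_option autoImplicit false
set_option linter.unusedSectionVars false
set_option linter.unusedVariables false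

open scoped ComplexConjugate
open Cfsg Cfsg.Agent.Characters.Core Cfsg.Agent.H892.EP

namespace Cfsg.Agent.H926.EP

open Cfsg.Agent.LieClassical.HermBasic Cfsg.Agent.LieClassical.HermSiegel Cfsg.Agent.H113.PSU.Points

section chars

universe u

variable {F : Type u} [Field F] [Fintype F] {q : ℕ}

/-- **the two characters of `PSU_4(q)`** -/
theorem psu_four_chars (hF : Fintype.card F = q ^ 2) :
    ∃ (η₁ η₂ : IrrCharacter (PSU 4 F q)) (f g : ℕ), (η₁ : PSU 4 F q → ℂ) 1 = f ∧ (η₂ : PSU 4 F q → ℂ) 1 = g ∧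
      f = q ^ 2 * (q ^ 2 + 1) ∧ (q + 1) * g = q ^ 3 * (q ^ 3 + 1) ∧
      ∀ z : SU 4 F q, (∀ v : Fin 4 → F, v ≠ 0 → hermForm 4 F q v v = 0 → ∀ c : F, act z v ≠ c • v) →
        1 + (η₁ : PSU 4 F q → ℂ) (QuotientGroup.mk z) + (η₂ : PSU 4 F q → ℂ) (QuotientGroup.mk z) = 0 := by
  classical
  have hq2 := two_le hF
  obtain ⟨b, hb0, hb, hr3, x₀, y₀, hxy, hR, hcom⟩ := r3 (F := F) (m := 2) hF le_rfl
  have := Fintype.ofFinite (Pt 4 F q)
  obtain ⟨Q, hQ⟩ : ∃ Q : ℤ, Q = (q : ℤ) := ⟨_, rfl⟩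
  have hQ2 : 2 ≤ Q := by rw [hQ]; exact_mod_cast hq2
  norm_num at hb
  rw [← hQ] at hb
  have hbQ : (b : ℤ) = Q + 1 := by
    have h0 : Q ^ 2 - 1 ≠ 0 := by nlinarith
    exact hb.resolve_right h0
  obtain ⟨χ₁, χ₂, f, g, hf, hg, h1, h2, hfix, h3⟩ := H113.PSU.Rank3.frame_exact hr3 hxy hR hcom
    (r := Q ^ 2 - 1) (s := -Q - 1) (by nlinarith)
    (by push_cast; rw [← hQ, hbQ]; ring)
    (by push_cast; rw [← hQ, hbQ]; ring)
  have hcen : ∀ z ∈ Subgroup.center (SU 4 F q), ∀ y : Pt 4 F q, z • y = y := by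
    intro z hz y
    obtain ⟨c, hc, -, hc'⟩ := Cfsg.Agent.ClassicalGeometry.PSUAutBasic.exists_scalar_of_mem_center hF (by omega) hz
    obtain ⟨v, h0, hv, rfl⟩ := exists_pt y
    rw [smul_pt, pt_eq_iff]
    exact ⟨c, hc, hc' v⟩
  obtain ⟨η₁, hη₁, hη₁'⟩ := Cfsg.Agent.H477.HC.exists_quot (Subgroup.center (SU 4 F q)) χ₁.2
    (fun z hz => by rw [(h3 z (hcen z hz)).1, hf])
  obtain ⟨η₂, hη₂, hη₂'⟩ := Cfsg.Agent.H477.HC.exists_quot (Subgroup.center (SU 4 F q)) χ₂.2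
    (fun z hz => by rw [(h3 z (hcen z hz)).2, hg])
  refine ⟨⟨η₁, hη₁⟩, ⟨η₂, hη₂⟩, f, g, ?_, ?_, ?_, ?_, fun z hz => ?_⟩
  · rw [← hf, ← hη₁' 1]; rfl
  · rw [← hg, ← hη₂' 1]; rfl
  · push_cast at h1
    rw [← hQ, hbQ] at h1
    have h4 : (f : ℤ) = ((q ^ 2 * (q ^ 2 + 1) : ℕ) : ℤ) := by
      push_cast
      rw [← hQ]
      apply mul_left_cancel₀ (show Q ^ 2 + Q ≠ 0 by nlinarith)
      linear_combination h1
    exact_mod_cast h4
  · push_cast at h2
    rw [← hQ, hbQ] at h2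
    have h4 : (((q + 1) * g : ℕ) : ℤ) = ((q ^ 3 * (q ^ 3 + 1) : ℕ) : ℤ) := by
      push_cast
      rw [← hQ]
      apply mul_left_cancel₀ (show Q ≠ 0 by omega)
      linear_combination h2
    exact_mod_cast h4
  · have h7 : MulAction.fixedBy (Pt 4 F q) z = ∅ := by
      rw [Set.eq_empty_iff_forall_notMem]
      intro y hy
      obtain ⟨v, h0, hv, rfl⟩ := exists_pt y
      rw [MulAction.mem_fixedBy, smul_pt, pt_eq_iff] at hy
      obtain ⟨c, -, hc⟩ := hy
      exact hz v h0 hv c hc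
    have h8 := hfix z
    rw [h7] at h8
    simp only [Nat.card_eq_fintype_card, Fintype.card_eq_zero, Nat.cast_zero] at h8
    rw [h8, ← hη₁' z, ← hη₂' z]

end chars

section fixed

variable {F : Type*} [Field F] [Fintype F] {q n : ℕ}

theorem act_pow_fix {y : SU n F q} {v : Fin n → F} (hv : act y v = v) (i : ℕ) : act (y ^ i) v = v := by
  induction i with
  | zero => rw [pow_zero, act_one]
  | succ i ih => rw [pow_succ, act_mul, hv, ih]

/-- the sum over a cyclic group is fixed -/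
theorem act_sum_pow {y : SU n F q} {p : ℕ} (hy : y ^ p = 1) (w : Fin n → F) :
    act y (∑ i ∈ Finset.range p, act (y ^ i) w) = ∑ i ∈ Finset.range p, act (y ^ i) w := by
  rw [act_sum]
  have h1 : ∀ i, act y (act (y ^ i) w) = act (y ^ (i + 1)) w := fun i => by rw [← act_mul, ← pow_succ']
  rw [Finset.sum_congr rfl fun i _ => h1 i]
  have h2 := Finset.sum_range_succ' (fun i => act (y ^ i) w) p
  have h3 := Finset.sum_range_succ (fun i => act (y ^ i) w) p
  rw [h3, hy, pow_zero] at h2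
  exact (add_right_cancel h2).symm

/-- a fixed isotropic vector is not alone -/
theorem exists_fix (hF : Fintype.card F = q ^ 2) {y : SU n F q} {p : ℕ} (hp : (p : F) ≠ 0) (hy : y ^ p = 1)
    {v : Fin n → F} (hv0 : v ≠ 0) (hv : act y v = v) :
    ∃ w, act y w = w ∧ hermForm n F q v w ≠ 0 := by
  obtain ⟨w, hw⟩ := exists_herm_ne_zero hF hv0
  refine ⟨∑ i ∈ Finset.range p, act (y ^ i) w, act_sum_pow hy w, ?_⟩
  rw [herm_sum_right hF]
  have h1 : ∀ i, hermForm n F q v (act (y ^ i) w) = hermForm n F q v w := by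
    intro i
    have h2 := herm_act (y ^ i) v w
    rwa [act_pow_fix hv] at h2
  rw [Finset.sum_congr rfl fun i _ => h1 i, Finset.sum_const, Finset.card_range, nsmul_eq_mul]
  exact mul_ne_zero hp hw

/-- **`p`-singular elements of `SU_4(q)`, `ord_p(q²) = 3`, fix no isotropic point** -/
theorem no_isotropic (hF : Fintype.card F = q ^ 2) {p : ℕ} [hpf : Fact p.Prime] (hpF : (p : F) ≠ 0)
    (hiff : ∀ j, p ∣ Fintype.card F ^ j - 1 ↔ 3 ∣ j) {z : SU 4 F q} (hz : p ∣ orderOf z) {v : Fin 4 → F} (hv0 : v ≠ 0)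
    (hvv : hermForm 4 F q v v = 0) (c : F) : act z v ≠ c • v := by
  intro h
  have hp : p.Prime := hpf.out
  have hz0 : 0 < orderOf z := orderOf_pos z
  obtain ⟨k, hk⟩ := hz
  have hk0 : k ≠ 0 := by
    rintro rfl
    omega
  have hyo : orderOf (z ^ k) = p := by
    rw [orderOf_pow_of_dvd hk0 (Dvd.intro_left p hk.symm), hk]
    exact Nat.mul_div_cancel _ (Nat.pos_of_ne_zero hk0)
  have hpow : ∀ i : ℕ, act (z ^ i) v = c ^ i • v := by
    intro i
    induction i with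
    | zero => rw [pow_zero, pow_zero, one_smul, act_one]
    | succ i ih => rw [pow_succ, act_mul, h, act_smul, ih, smul_smul, pow_succ']
  have hc0 : c ≠ 0 := by
    rintro rfl
    rw [zero_smul] at h
    exact hv0 ((act_eq_zero z).1 h)
  have hy1 : (z ^ k) ^ p = 1 := by rw [← hyo, pow_orderOf_eq_one]
  have hcp : (c ^ k) ^ p = 1 := by
    have h1 := hpow (k * p)
    rw [pow_mul, hy1, act_one, pow_mul] at h1
    have h2 : ((c ^ k) ^ p - 1) • v = 0 := by rw [sub_smul, one_smul, ← h1, sub_self]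
    exact sub_eq_zero.1 ((smul_eq_zero.1 h2).resolve_right hv0)
  have hc1 : c ^ k = 1 := by
    have h1 : (c ^ k) ^ (Fintype.card F - 1) = 1 := FiniteField.pow_card_sub_one_eq_one _ (pow_ne_zero _ hc0)
    have h2 : Nat.Coprime p (Fintype.card F - 1) := by
      rw [Nat.Prime.coprime_iff_not_dvd hp]
      intro h3
      have h4 := (hiff 1).1 (by rwa [pow_one])
      omega
    have h3 : orderOf (c ^ k) ∣ 1 := by
      have h4 := Nat.dvd_gcd (orderOf_dvd_of_pow_eq_one hcp) (orderOf_dvd_of_pow_eq_one h1)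
      rwa [h2] at h4
    exact orderOf_eq_one_iff.1 (Nat.dvd_one.1 h3)
  have hyv : act (z ^ k) v = v := by rw [hpow, hc1, one_smul]
  -- the fixed space
  have hmat : (mat (z ^ k)) ^ p ^ 1 = 1 := by
    have h1 : ∀ i : ℕ, mat ((z ^ k) ^ i) = mat (z ^ k) ^ i := by
      intro i
      induction i with
      | zero => rw [pow_zero, pow_zero, mat_one]
      | succ i ih => rw [pow_succ, mat_mul, ih, pow_succ]
    rw [pow_one, ← h1, hy1, mat_one]
  have hd := fix_dvd (by norm_num) hiff hmat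
  rw [Fintype.card_fin] at hd
  have hfix : ∀ w : Fin 4 → F, w ∈ LinearMap.ker (Matrix.toLin' (mat (z ^ k)) - 1) ↔ act (z ^ k) w = w := fun w => mem_fix
  have h2 : 0 < Module.finrank F (LinearMap.ker (Matrix.toLin' (mat (z ^ k)) - 1)) := by
    rw [Module.finrank_pos_iff]
    exact ⟨⟨⟨v, (hfix v).2 hyv⟩, 0, fun h => hv0 (congrArg Subtype.val h)⟩⟩
  have h3 : Module.finrank F (LinearMap.ker (Matrix.toLin' (mat (z ^ k)) - 1)) ≤ 4 := by
    have := Submodule.finrank_le (LinearMap.ker (Matrix.toLin' (mat (z ^ k)) - 1))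
    rwa [Module.finrank_fintype_fun_eq_card, Fintype.card_fin] at this
  rcases (by omega : Module.finrank F (LinearMap.ker (Matrix.toLin' (mat (z ^ k)) - 1)) = 1 ∨
    Module.finrank F (LinearMap.ker (Matrix.toLin' (mat (z ^ k)) - 1)) = 4) with h4 | h4
  · obtain ⟨w, hw, hvw⟩ := exists_fix hF hpF hy1 hv0 hyv
    obtain ⟨⟨u, hu⟩, hu0, hus⟩ := finrank_eq_one_iff'.1 h4
    obtain ⟨a, ha⟩ := hus ⟨v, (hfix v).2 hyv⟩
    obtain ⟨b, hb⟩ := hus ⟨w, (hfix w).2 hw⟩
    have ha' : a • u = v := congrArg Subtype.val ha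
    have hb' : b • u = w := congrArg Subtype.val hb
    have ha0 : a ≠ 0 := by
      rintro rfl
      rw [zero_smul] at ha'
      exact hv0 ha'.symm
    have hw' : w = (b * a⁻¹) • v := by
      rw [← ha', smul_smul, mul_assoc, inv_mul_cancel₀ ha0, mul_one, hb']
    rw [hw', herm_smul_right, hvv, mul_zero] at hvw
    exact hvw rfl
  · have h5 : LinearMap.ker (Matrix.toLin' (mat (z ^ k)) - 1) = ⊤ := by
      apply Submodule.eq_top_of_finrank_eq
      rw [Module.finrank_fintype_fun_eq_card, Fintype.card_fin]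
      exact h4
    have h6 : z ^ k = 1 := ext_act fun w => by
      rw [act_one]
      exact (hfix w).1 (by rw [h5]; trivial)
    rw [h6, orderOf_one] at hyo
    exact hp.one_lt.ne hyo

end fixed

section main

variable {F : Type} [Field F] [Fintype F] {r : ℕ} [Fact r.Prime] [CharP F r] {p : ℕ} [Fact p.Prime]

theorem ord_three {q : ℕ} (hq : 2 ≤ q) (hpq : ¬ p ∣ q) (h1 : p ∣ q ^ 3 + 1) (h2 : ¬ p ∣ q ^ 2 - 1) (j : ℕ) :
    p ∣ (q ^ 2) ^ j - 1 ↔ 3 ∣ j := by
  have hp : p.Prime := Fact.out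
  have h6 : p ∣ (q ^ 2) ^ 3 - 1 := by
    rw [← pow_mul, show 2 * 3 = 3 + 3 by norm_num, pow_add]
    have : q ^ 3 * q ^ 3 - 1 = (q ^ 3 + 1) * (q ^ 3 - 1) := by rw [← sq, ← Nat.sq_sub_sq, one_pow]
    rw [this]
    exact Dvd.dvd.mul_right h1 _
  constructor
  · intro h
    by_contra h3
    have hg : Nat.gcd j 3 = 1 := by
      have : Nat.Coprime 3 j := (Nat.Prime.coprime_iff_not_dvd Nat.prime_three).2 h3
      rw [Nat.gcd_comm]
      exact this
    have h7 : p ∣ (q ^ 2) ^ (Nat.gcd j 3) - 1 := by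
      rw [← Nat.pow_sub_one_gcd_pow_sub_one]
      exact Nat.dvd_gcd h h6
    rw [hg, pow_one] at h7
    exact h2 h7
  · rintro ⟨i, rfl⟩
    rw [pow_mul]
    exact h6.trans (Nat.sub_one_dvd_pow_sub_one _ _)

/-- **`PSU_4(q)`, `p ∣ q^3 + 1`** -/
theorem evAt_psu4 (hr : r ≠ 2) (hp2 : p ≠ 2) (hpr : p ≠ r) {q : ℕ} (hq : Fintype.card F = q ^ 2)
    (h1 : p ∣ q ^ 3 + 1) (h2 : ∀ i, 0 < i → i < 3 → ¬ p ∣ q ^ (2 * i) - 1) : EvAt p (PSU 4 F q) := by
  intro M hM
  have hp : p.Prime := Fact.out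
  have hrp : r.Prime := Fact.out
  have hq2 := two_le hq
  have hqo : Odd q := by
    obtain ⟨f, -, hf⟩ := FiniteField.card F r
    have h3 : Odd (q ^ 2) := by
      rw [← hq, hf]
      exact (hrp.odd_of_ne_two hr).pow
    rcases Nat.even_or_odd q with h4 | h4
    · exact absurd (h4.pow_of_ne_zero (by norm_num : 2 ≠ 0)) (Nat.not_even_iff_odd.2 h3)
    · exact h4
  have hpq : ¬ p ∣ q := by
    intro h3
    have h4 := (Nat.dvd_add_right (dvd_pow h3 (by norm_num : 3 ≠ 0))).1 h1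
    exact hp.one_lt.ne' (Nat.dvd_one.1 h4)
  have hpF : (p : F) ≠ 0 := by
    intro h3
    exact hpr ((Nat.prime_dvd_prime_iff_eq hrp hp).1 ((CharP.cast_eq_zero_iff F r p).1 h3)).symm
  have hp1 : ¬ p ∣ q ^ 2 - 1 := by
    have := h2 1 (by norm_num) (by norm_num)
    rwa [mul_one] at this
  have hp4 : ¬ p ∣ q ^ 4 - 1 := h2 2 (by norm_num) (by norm_num)
  have hiff : ∀ j, p ∣ Fintype.card F ^ j - 1 ↔ 3 ∣ j := fun j => by
    rw [hq]
    exact ord_three hq2 hpq h1 hp1 j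
  have hp1' : ¬ p ∣ q + 1 := by
    intro h3
    apply hp1
    have : q ^ 2 - 1 = (q + 1) * (q - 1) := by rw [← Nat.sq_sub_sq, one_pow]
    rw [this]
    exact Dvd.dvd.mul_right h3 _
  -- the order
  have hord := Cfsg.Agent.S0280.result hq 4 (by norm_num)
  rw [Finset.prod_range_succ, Finset.prod_range_succ, Finset.prod_range_succ, Finset.prod_range_succ,
    Finset.prod_range_zero] at hord
  norm_num [Nat.even_iff] at hord
  have hpart : ∀ k, p ^ k ∣ Nat.card (PSU 4 F q) → p ^ k ∣ q ^ 3 + 1 := by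
    intro k hk
    have h3 : p ^ k ∣ q ^ 6 * ((q + 1) * (q ^ 2 - 1) * (q ^ 3 + 1) * (q ^ 4 - 1)) := by
      rw [← hord]
      exact Dvd.dvd.mul_left (Dvd.dvd.mul_left hk _) _
    have hc : ∀ a, ¬ p ∣ a → Nat.Coprime (p ^ k) a := fun a ha =>
      Nat.Coprime.pow_left _ ((Nat.Prime.coprime_iff_not_dvd hp).2 ha)
    have h4 := (hc _ (fun h => hpq (hp.dvd_of_dvd_pow h))).dvd_of_dvd_mul_left h3
    have h5 := (hc _ hp4).dvd_of_dvd_mul_right h4
    exact (hc ((q + 1) * (q ^ 2 - 1)) (fun h => by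
      rcases (Nat.Prime.dvd_mul hp).1 h with h | h
      · exact hp1' h
      · exact hp1 h)).dvd_of_dvd_mul_left h5
  have hd : p ∣ Nat.card (PSU 4 F q) := by
    have h3 : p ∣ Nat.gcd 4 (q + 1) * ((q + 1) * Nat.card (PSU 4 F q)) := by
      rw [hord]
      exact Dvd.dvd.mul_left (Dvd.dvd.mul_right (Dvd.dvd.mul_left h1 _) _) _
    rcases (Nat.Prime.dvd_mul hp).1 h3 with h4 | h4
    · exact absurd (h4.trans (Nat.gcd_dvd_right _ _)) hp1'
    · exact ((Nat.Prime.dvd_mul hp).1 h4).resolve_left hp1'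
  obtain ⟨η₁, η₂, f, g, c1, c2, hf, hg, h3⟩ := psu_four_chars hq
  have hg' : p ^ (Nat.card (PSU 4 F q)).factorization p ∣ g := by
    have h4 := hpart _ (Nat.ordProj_dvd (Nat.card (PSU 4 F q)) p)
    have h5 : p ^ (Nat.card (PSU 4 F q)).factorization p ∣ (q + 1) * g := by
      rw [hg]
      exact Dvd.dvd.mul_left h4 _
    exact (Nat.Coprime.pow_left _ ((Nat.Prime.coprime_iff_not_dvd hp).2 hp1')).dvd_of_dvd_mul_left h5
  have hv : ∀ x : PSU 4 F q, p ∣ orderOf x → (η₁ : PSU 4 F q → ℂ) x = -1 := by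
    intro x hx
    have h4 := Cfsg.Agent.H692.RealOver.defect_zero_vanish η₂.2 p hp (by
      rw [Cfsg.Agent.Blocks.Basic.charDegree_of_eq c2]
      exact hg') hx
    obtain ⟨z, rfl⟩ := QuotientGroup.mk_surjective x
    have hz : p ∣ orderOf z := hx.trans (orderOf_map_dvd (QuotientGroup.mk' (Subgroup.center (SU 4 F q))) z)
    have h5 := h3 z (fun v hv0 hvv c => no_isotropic hq hpF hiff hz hv0 hvv c)
    linear_combination h5 - h4
  refine ⟨η₁, mem_of_neg_one hM hd η₁ hv, ?_⟩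
  rw [Cfsg.Agent.Blocks.Basic.charDegree_of_eq c1, hf]
  exact Dvd.dvd.mul_left hqo.pow.add_one.two_dvd _

end main

end Cfsg.Agent.H926.EP
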