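import Cfsg.Agent.H477.HC.Rk3Chars

/-!
# S4929: the rank 3 permutation character of `PΩ⁻_{2m}(q)` on the singular points (helper926)

`minus_chars` : irreducible characters `η₁`, `η₂` of `PΩ⁻_{2l+2}(q)` of known degrees, `1 + η₁ + η₂ = 0` at the elements
without invariant lines.
-/

set_option autoImplicit false

open scoped ComplexConjugate
open Cfsg

namespace Cfsg.Agent.H926.EP

open Module Cfsg.Agent.H53.HC Cfsg.Agent.H690.Spor.RankThree Cfsg.Agent.H690.Spor.RankThree.R3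
open Cfsg.Agent.Characters Cfsg.Agent.H477.HC Cfsg.Agent.H477.HC.CForm

universe u v w

section

variable {K : Type u} [Field K] {V : Type v} [AddCommGroup V] [Module K V] {F : CForm K V}
  {X : Type w} [AddCommGroup X] [Module K X] {F' : CForm K X} {e f : V} {j : X →ₗ[K] V}

/-- **the two characters** and the number of fixed points -/
theorem exists_chars_fix [FiniteDimensional K V] [Finite V] [Finite K] [Finite X] (h : Hyp F F' e f j) {P P' : ℕ}
    (hP : 2 ≤ P) (hP' : 1 ≤ P')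
    (hX : Nat.card {x : X // F'.Sing x} = (P - 1) * (P' + 1) + 1)
    (hV : Nat.card {v : V // F.Sing v} = (Nat.card K * P - 1) * (Nat.card K * P' + 1) + 1)
    (H : Subgroup F.iso) (hH : ∀ (g : F.iso) (x y : F.Pt), ∃ h ∈ H, h • x = g • x ∧ h • y = g • y) :
    ∃ (χ₁ χ₂ : IrrCharacter H) (a b : ℕ), (χ₁ : H → ℂ) 1 = a ∧ (χ₂ : H → ℂ) 1 = b ∧
      ((Nat.card K : ℤ) - 1) * (P + P') * a = Nat.card K * P' * (P' + 1) * (Nat.card K * P - 1) ∧
      ((Nat.card K : ℤ) - 1) * (P + P') * b = Nat.card K * P * (P - 1) * (Nat.card K * P' + 1) ∧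
      (∀ x : H, (∀ y : F.Pt, (x : F.iso) • y = y) → (χ₁ : H → ℂ) x = a ∧ (χ₂ : H → ℂ) x = b) ∧
      ∀ x : H, (∀ y : F.Pt, (x : F.iso) • y ≠ y) → 1 + (χ₁ : H → ℂ) x + (χ₂ : H → ℂ) x = 0 := by
  classical
  have hq : 1 < Nat.card K := Finite.one_lt_card
  obtain ⟨q, hq'⟩ : ∃ q, q = Nat.card K := ⟨_, rfl⟩
  obtain ⟨n, hn⟩ : ∃ n, n = Nat.card F'.Pt := ⟨_, rfl⟩
  have hb := card_sing (F := F')
  rw [← hn] at hb
  rw [← hq'] at hq hV hb ⊢
  have hb1 : (q - 1) * n = (P - 1) * (P' + 1) := by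
    rw [hX] at hb
    exact Nat.add_right_cancel hb
  have hn0 : 0 < n := by
    rcases Nat.eq_zero_or_pos n with h0 | h0
    · exfalso
      rw [h0, mul_zero] at hb1
      have : 0 < (P - 1) * (P' + 1) := Nat.mul_pos (by omega) (by omega)
      omega
    · exact h0
  obtain ⟨s, rfl⟩ : ∃ s, q = s + 1 := ⟨q - 1, by omega⟩
  obtain ⟨t, rfl⟩ : ∃ t, P = t + 1 := ⟨P - 1, by omega⟩
  rw [Nat.add_sub_cancel, Nat.add_sub_cancel] at hb1
  have hl : (Nat.card K - 1) * (1 + Nat.card K * n + (s + 1) * ((t + 1) * P')) + 1 = Nat.card {v : V // F.Sing v} := by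
    rw [hV, ← hq', Nat.add_sub_cancel]
    have e1 : (s + 1) * (t + 1) - 1 = s * t + s + t := by
      have : (s + 1) * (t + 1) = s * t + s + t + 1 := by ring
      omega
    rw [e1]
    have e2 : s * (1 + (s + 1) * n + (s + 1) * ((t + 1) * P')) + 1 =
        s + (s + 1) * (s * n) + s * ((s + 1) * ((t + 1) * P')) + 1 := by ring
    rw [e2, hb1]
    ring
  obtain ⟨hr3, x₀, y₀, hxy, hR, hcom⟩ := r3 h (b := n) (l := (s + 1) * ((t + 1) * P')) (by rw [← hq']; exact hb) hl hn0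
    (by positivity) H hH
  have hbZ : (s : ℤ) * n = t * (P' + 1) := by exact_mod_cast hb1
  have := Fintype.ofFinite F.Pt
  have : Finite F.iso := finite_iso F
  have hnP : (t : ℤ) - (-(P' : ℤ) - 1) = t + 1 + P' := by ring
  obtain ⟨χ₁, χ₂, a, b, h1, h2, h3, h4, h5, h6⟩ := H113.PSU.Rank3.frame_exact hr3 hxy hR hcom
    (r := (t : ℤ)) (s := -(P' : ℤ) - 1) (by
      intro h0
      have : (t : ℤ) + 1 + P' = 0 := by rw [h0]; ring
      omega)
    (by
      rw [← hq']
      push_cast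
      linear_combination hbZ)
    (by
      rw [← hq']
      push_cast
      linear_combination (-(((s : ℤ) + 1) * n)) * hbZ)
  rw [← hq'] at h3 h4
  push_cast at h3 h4
  refine ⟨χ₁, χ₂, a, b, h1, h2, ?_, ?_, fun x hx => h6 x hx, fun x hx => ?_⟩
  · push_cast
    linear_combination (s : ℤ) * h3 + (((s : ℤ) + 1) * P') * hbZ
  · push_cast
    linear_combination (s : ℤ) * h4 + (((s : ℤ) + 1) * (t + 1)) * hbZ
  · rw [← h5 x]
    have h7 : MulAction.fixedBy F.Pt x = ∅ := by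
      rw [Set.eq_empty_iff_forall_notMem]
      intro y hy
      exact hx y hy
    rw [h7]
    simp

end

/-- from the commutator subgroup of `F.iso` to `PΩ` -/
theorem down_of_comm {ι : Type} [Fintype ι] [DecidableEq ι] {K : Type u} [Field K] [Finite K] (F : CForm K (ι → K))
    (hB : ∀ u v, F.B u v = F.Q (u + v) - F.Q u - F.Q v)
    (hcen : ∀ z : Omega K F.Q, z ∈ Subgroup.center (Omega K F.Q) → ∃ a : Kˣ, ∀ v, (omMat z).mulVec v = (a : K) • v) :
    ∃ φ : Omega K F.Q →* commutator F.iso,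
      (∀ (z : Omega K F.Q) (v : ι → K), (((φ z : commutator F.iso) : F.iso) : (ι → K) ≃ₗ[K] (ι → K)) v =
        (omMat z).mulVec v) ∧
      ∀ (χ : IrrCharacter (commutator F.iso)) (a : ℕ), (χ : commutator F.iso → ℂ) 1 = a →
        (∀ x : commutator F.iso, (∀ y : F.Pt, (x : F.iso) • y = y) → (χ : commutator F.iso → ℂ) x = a) →
        ∃ η : IrrCharacter (POmega K F.Q), ∀ z : Omega K F.Q,
          (η : POmega K F.Q → ℂ) (QuotientGroup.mk z) = (χ : commutator F.iso → ℂ) (φ z) := by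
  have h1 : (Omega K F.Q).map (isoQuad F hB).toMonoidHom = commutator F.iso := by
    change (commutator (isometryGroup K F.Q)).map (isoQuad F hB).toMonoidHom = commutator F.iso
    rw [commutator_def, commutator_def, Subgroup.map_commutator, ← MonoidHom.range_eq_map]
    have : (isoQuad F hB).toMonoidHom.range = ⊤ := MonoidHom.range_eq_top.2 (isoQuad F hB).surjective
    rw [this]
  let φ : Omega K F.Q →* commutator F.iso :=
    ((isoQuad F hB).toMonoidHom.comp (Omega K F.Q).subtype).codRestrict (commutator F.iso) fun z => by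
      rw [← h1]
      exact ⟨z, z.2, rfl⟩
  have hφ : Function.Surjective φ := by
    rintro ⟨y, hy⟩
    rw [← h1] at hy
    obtain ⟨z, hz, hzy⟩ := hy
    exact ⟨⟨z, hz⟩, Subtype.ext hzy⟩
  refine ⟨φ, fun z v => rfl, fun χ a ha hker => ?_⟩
  obtain ⟨η, hη, hη'⟩ := exists_quot (Subgroup.center (Omega K F.Q)) (Core.isIrr_comp φ hφ χ.2) (fun z hz => by
    rw [Function.comp_apply, Function.comp_apply, map_one, ha]
    refine hker _ fun y => ?_
    obtain ⟨c, hc⟩ := hcen z hz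
    apply Subtype.ext
    rw [F.smul_val]
    have h2 : ∀ v, ((isoQuad F hB z : F.iso) : (ι → K) ≃ₗ[K] (ι → K)) v = (c : K) • v := fun v => hc v
    apply le_antisymm
    · rintro _ ⟨w, hw, rfl⟩
      change ((isoQuad F hB z : F.iso) : (ι → K) ≃ₗ[K] (ι → K)) w ∈ y.1
      rw [h2]
      exact y.1.smul_mem _ hw
    · intro w hw
      refine ⟨(c : K)⁻¹ • w, y.1.smul_mem _ hw, ?_⟩
      change ((isoQuad F hB z : F.iso) : (ι → K) ≃ₗ[K] (ι → K)) ((c : K)⁻¹ • w) = w
      rw [h2, smul_smul, mul_inv_cancel₀ c.ne_zero, one_smul])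
  exact ⟨⟨η, hη⟩, fun z => hη' z⟩

/-- **the characters of `PΩ⁻_{2l+2}(q)`** -/
theorem minus_chars (K : Type u) [Field K] [Finite K] (a b : K)
    (hab : ∀ z₁ z₂ : K, z₁ ^ 2 + a * z₁ * z₂ + b * z₂ ^ 2 = 0 → z₁ = 0 ∧ z₂ = 0) {l : ℕ} (hl : 3 ≤ l) :
    ∃ (η₁ η₂ : IrrCharacter (POmega K (quadFormMinus l K a b))) (s t : ℕ),
      (η₁ : POmega K (quadFormMinus l K a b) → ℂ) 1 = s ∧ (η₂ : POmega K (quadFormMinus l K a b) → ℂ) 1 = t ∧
      ((Nat.card K : ℤ) ^ 2 - 1) * s = Nat.card K ^ 2 * ((Nat.card K : ℤ) ^ (2 * l) - 1) ∧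
      ((Nat.card K : ℤ) ^ 2 - 1) * t = Nat.card K * (Nat.card K ^ (l + 1) + 1) * ((Nat.card K : ℤ) ^ (l - 1) - 1) ∧
      ∀ z : Omega K (quadFormMinus l K a b), (∀ v : (Fin l ⊕ Fin l) ⊕ Fin 2 → K, v ≠ 0 → ∀ c : K,
        (omMat z).mulVec v ≠ c • v) →
        1 + (η₁ : POmega K (quadFormMinus l K a b) → ℂ) (QuotientGroup.mk z) +
          (η₂ : POmega K (quadFormMinus l K a b) → ℂ) (QuotientGroup.mk z) = 0 := by
  classical
  have hfin := Fintype.ofFinite K
  have hq : 2 ≤ Nat.card K := Finite.one_lt_card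
  obtain ⟨n, rfl⟩ : ∃ n, l = n + 1 := ⟨l - 1, by omega⟩
  obtain ⟨e, f, j, h⟩ := CForm.frm_minus (K := K) hab (show 1 + n = n + 1 by omega)
  obtain ⟨e3, f3, j3, h3⟩ := CForm.frm_minus (K := K) hab (show 3 + (n - 2) = n + 1 by omega)
  have hc : Fintype.card K = Nat.card K := Nat.card_eq_fintype_card.symm
  have hG : LieClassical.OrthTrans.Good (LieClassical.OrthForms.minusForm (n + 1) K a b) := by
    apply LieClassical.OrthFinite.good_of_finite (LieClassical.OrthForms.nondeg_minusForm (n + 1) K a b hab)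
    rw [Module.finrank_fintype_fun_eq_card, Fintype.card_sum, Fintype.card_sum, Fintype.card_fin, Fintype.card_fin]
    omega
  have hstab := CForm.om_stab (F := CForm.minusF K (n + 1) a b hab) (F' := CForm.minusF K (n - 2) a b hab) hG
    (fun v => congrFun (LieClassical.OrthForms.coe_minusForm (n + 1) K a b) v) (minus_hB K (n + 1) a b hab) h3
    (fun _ => rfl) (fun _ => rfl)
  obtain ⟨χ₁, χ₂, s, t, c1, c2, c3, c4, c5, c6⟩ := exists_chars_fix h.hyp (P := Nat.card K ^ n)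
    (P' := Nat.card K ^ (n + 1)) (two_le_pow hq (by omega)) (Nat.one_le_pow _ _ (by omega))
    (by
      rw [card_Sing_quad, ← num_minus hq n]
      exact S0290.result hc (n + 1) (by omega) a b hab)
    (by
      rw [card_Sing_quad, ← pow_succ', ← pow_succ', ← num_minus hq (n + 1)]
      exact S0290.result hc (n + 2) (by omega) a b hab)
    (commutator _) hstab
  obtain ⟨φ, hφ, hdown⟩ := down_of_comm (CForm.minusF K (n + 1) a b hab) (minus_hB K (n + 1) a b hab) (fun z hz => by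
    obtain ⟨c, -, hc⟩ := scal_of (cen_minus K (by omega) a b hab z hz)
    exact ⟨c, hc⟩)
  obtain ⟨η₁, hη₁⟩ := hdown χ₁ s c1 (fun x hx => (c5 x hx).1)
  obtain ⟨η₂, hη₂⟩ := hdown χ₂ t c2 (fun x hx => (c5 x hx).2)
  refine ⟨η₁, η₂, s, t, ?_, ?_, ?_, ?_, fun z hz => ?_⟩
  · have := hη₁ 1
    rw [map_one, c1] at this
    exact this
  · have := hη₂ 1
    rw [map_one, c2] at this
    exact this
  · have hz : ((Nat.card K : ℤ) ^ n) ≠ 0 := pow_ne_zero _ (by exact_mod_cast (by omega : Nat.card K ≠ 0))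
    apply mul_left_cancel₀ hz
    have e2 : 2 * (n + 1) = (n + 1) + (n + 1) := by omega
    rw [e2]
    push_cast at c3
    linear_combination c3
  · have hz : ((Nat.card K : ℤ) ^ n) ≠ 0 := pow_ne_zero _ (by exact_mod_cast (by omega : Nat.card K ≠ 0))
    apply mul_left_cancel₀ hz
    have e2 : n + 1 - 1 = n := by omega
    rw [e2]
    push_cast at c4
    linear_combination c4
  · have h7 := c6 (φ z) (fun y hy => by
      obtain ⟨v, hv0, hvs, rfl⟩ := (CForm.minusF K (n + 1) a b hab).exists_pt y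
      rw [CForm.smul_pt, CForm.pt_eq_iff] at hy
      obtain ⟨c, hc0, hc'⟩ := hy
      exact hz v hv0 c ((hφ z v).symm.trans hc'))
    have e1 := hη₁ z
    have e2 := hη₂ z
    rw [← e1, ← e2] at h7
    exact h7

end Cfsg.Agent.H926.EP
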