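import Cfsg.Agent.H926.EP.MinusChars
import Cfsg.Agent.H926.EP.NoEig
import Cfsg.Agent.H892.EP.Rows
import Cfsg.Agent.H692.RealOver
import Cfsg.Agent.S0294

/-!
# S4929: `PΩ⁻_{2m}(q)`, `m` odd, `p ∣ q^m + 1` (helper926)

`evAt_top_odd` : the constituent of degree `q² (q^{2m-2} - 1) / (q² - 1)` of the permutation character on the singular
points is `-1` at the `p`-singular elements.
-/

set_option autoImplicit false

open scoped ComplexConjugate
open Cfsg Cfsg.Agent.Characters.Core Cfsg.Agent.H892.EP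

namespace Cfsg.Agent.H926.EP

open Cfsg.Agent.H477.HC

/-- a character which is `-1` at the `p`-singular elements is in the principal block -/
theorem mem_of_neg_one {G : Type} [Group G] [Finite G] {p : ℕ} [hp : Fact p.Prime] {M : Ideal AlgInt}
    (hM : IsPModular p M) (hd : p ∣ Nat.card G) (χ : IrrCharacter G)
    (h : ∀ x : G, p ∣ orderOf x → (χ : G → ℂ) x = -1) : χ ∈ principalBlock M G := by
  obtain ⟨u, hu⟩ := exists_prime_orderOf_dvd_card' p hd
  refine mem_of_section_sum hM χ u ?_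
  have h1 : ∀ x ∈ {x : G | ∃ z, IsPPart p x z ∧ IsConj u z}, (χ : G → ℂ) x = -1 := by
    rintro x ⟨z, ⟨y, hzy, hc, ⟨k, hk⟩, hy⟩, hz⟩
    apply h
    have hzo : orderOf z = p := by
      obtain ⟨g, hg⟩ := isConj_iff.1 hz
      rw [← hu, ← hg]
      exact (MulAut.conj g).orderOf_eq u
    have hcop : Nat.Coprime (orderOf z) (orderOf y) := by
      rw [hzo]
      exact (Nat.Prime.coprime_iff_not_dvd hp.out).2 hy
    rw [← hzy, hc.orderOf_mul_eq_mul_orderOf_of_coprime hcop, hzo]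
    exact dvd_mul_right _ _
  have h2 : ∑ᶠ x ∈ {x : G | ∃ z, IsPPart p x z ∧ IsConj u z}, (χ : G → ℂ) x =
      -((Nat.card {x : G | ∃ z, IsPPart p x z ∧ IsConj u z} : ℕ) : ℂ) := by
    rw [finsum_mem_eq_finite_toFinset_sum _ (Set.toFinite _)]
    rw [Finset.sum_congr rfl fun x hx => h1 x ((Set.Finite.mem_toFinset _).1 hx), Finset.sum_const, nsmul_eq_mul,
      ← Nat.card_eq_card_finite_toFinset]
    ring
  rw [h2]
  apply neg_ne_zero.2
  have h3 : 0 < Nat.card {x : G | ∃ z, IsPPart p x z ∧ IsConj u z} := by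
    have : Nonempty {x : G | ∃ z, IsPPart p x z ∧ IsConj u z} :=
      ⟨⟨u, u, ⟨1, mul_one u, Commute.one_right u, ⟨1, by rw [hu, pow_one]⟩, by
        rw [orderOf_one]; exact hp.out.one_lt.ne' ∘ Nat.dvd_one.1⟩, IsConj.refl u⟩⟩
    exact Nat.card_pos
  exact_mod_cast h3.ne'

theorem sq_sub' (q e : ℕ) : q ^ (2 * e) - 1 = (q ^ e + 1) * (q ^ e - 1) := by
  rw [two_mul, pow_add, ← Nat.sq_sub_sq, ← sq, one_pow]

variable {F : Type} [Field F] [Fintype F] {p : ℕ} [Fact p.Prime]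

/-- the order of `PΩ⁻` -/
theorem pow_dvd_of_card {m : ℕ} (hm : 4 ≤ m) (a b : F)
    (hab : ∀ z₁ z₂ : F, z₁ ^ 2 + a * z₁ * z₂ + b * z₂ ^ 2 = 0 → z₁ = 0 ∧ z₂ = 0)
    (hiff : ∀ j, p ∣ Fintype.card F ^ j - 1 ↔ 2 * m ∣ j) {k : ℕ}
    (hk : p ^ k ∣ Nat.card (POmega F (quadFormMinus (m - 1) F a b))) : p ^ k ∣ Fintype.card F ^ m + 1 := by
  have hp : p.Prime := Fact.out
  have hq : 2 ≤ Fintype.card F := Fintype.one_lt_card
  have h1 := Cfsg.Agent.S0294.result (F := F) rfl m hm a b hab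
  have h2 : p ^ k ∣ Fintype.card F ^ (m * (m - 1)) * (Fintype.card F ^ m + 1) *
      ∏ i ∈ Finset.range (m - 1), (Fintype.card F ^ (2 * (i + 1)) - 1) := by
    rw [← h1]
    exact Dvd.dvd.mul_left hk _
  have h3 : Nat.Coprime (p ^ k) (∏ i ∈ Finset.range (m - 1), (Fintype.card F ^ (2 * (i + 1)) - 1)) := by
    apply Nat.Coprime.pow_left
    rw [Nat.Prime.coprime_iff_not_dvd hp, hp.prime.dvd_finsetProd_iff]
    rintro ⟨i, hi, h4⟩
    rw [Finset.mem_range] at hi
    have := Nat.le_of_dvd (by omega) ((hiff _).1 h4)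
    omega
  have h4 := h3.dvd_of_dvd_mul_right h2
  have h5 : Nat.Coprime (p ^ k) (Fintype.card F ^ (m * (m - 1))) := by
    apply Nat.Coprime.pow_left
    apply Nat.Coprime.pow_right
    rw [Nat.Prime.coprime_iff_not_dvd hp]
    intro h6
    have h7 : p ∣ Fintype.card F ^ (2 * m) - 1 := (hiff _).2 dvd_rfl
    have h8 : p ∣ Fintype.card F ^ (2 * m) := dvd_pow h6 (by omega)
    have h9 : 1 ≤ Fintype.card F ^ (2 * m) := Nat.one_le_pow _ _ (by omega)
    have h10 := Nat.dvd_sub h8 h7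
    rw [Nat.sub_sub_self h9] at h10
    exact hp.one_lt.ne' (Nat.dvd_one.1 h10)
  exact h5.dvd_of_dvd_mul_left h4

/-- **`m` odd, `p ∣ q^m + 1`** -/
theorem evAt_top_odd (ho : Odd (Fintype.card F)) {m : ℕ} (hm : 4 ≤ m) (hmo : Odd m) (a b : F)
    (hab : ∀ z₁ z₂ : F, z₁ ^ 2 + a * z₁ * z₂ + b * z₂ ^ 2 = 0 → z₁ = 0 ∧ z₂ = 0)
    (hd : p ∣ Nat.card (POmega F (quadFormMinus (m - 1) F a b)))
    (hiff : ∀ j, p ∣ Fintype.card F ^ j - 1 ↔ 2 * m ∣ j) :
    EvAt p (POmega F (quadFormMinus (m - 1) F a b)) := by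
  intro M hM
  have hp : p.Prime := Fact.out
  have hq : 2 ≤ Fintype.card F := Fintype.one_lt_card
  have hcd : Nat.card F = Fintype.card F := Nat.card_eq_fintype_card
  have hfin : Finite (isometryGroup F (quadFormMinus (m - 1) F a b)) := inferInstance
  have hfinO : Finite (Omega F (quadFormMinus (m - 1) F a b)) := inferInstance
  have hfinP : Finite (POmega F (quadFormMinus (m - 1) F a b)) := inferInstance
  obtain ⟨η₁, η₂, s, t, h1, h2, hs, ht, h3⟩ := minus_chars F a b hab (l := m - 1) (by omega)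
  rw [hcd] at hs ht
  -- `η₂` has defect zero
  have ht' : p ^ (Nat.card (POmega F (quadFormMinus (m - 1) F a b))).factorization p ∣ t := by
    have h4 := pow_dvd_of_card hm a b hab hiff (Nat.ordProj_dvd (Nat.card (POmega F (quadFormMinus (m - 1) F a b))) p)
    have h5 : (Fintype.card F ^ 2 - 1) * t = Fintype.card F * (Fintype.card F ^ m + 1) * (Fintype.card F ^ (m - 2) - 1) := by
      have h6 : 1 ≤ Fintype.card F ^ 2 := Nat.one_le_pow _ _ (by omega)
      have h7 : 1 ≤ Fintype.card F ^ (m - 2) := Nat.one_le_pow _ _ (by omega)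
      have h8 : m - 1 + 1 = m := by omega
      have h9 : m - 1 - 1 = m - 2 := by omega
      rw [h8, h9] at ht
      zify [h6, h7]
      exact ht
    have h6 : p ^ (Nat.card (POmega F (quadFormMinus (m - 1) F a b))).factorization p ∣ (Fintype.card F ^ 2 - 1) * t := by
      rw [h5]
      exact Dvd.dvd.mul_right (Dvd.dvd.mul_left h4 _) _
    refine Nat.Coprime.dvd_of_dvd_mul_left (Nat.Coprime.pow_left _ ?_) h6
    rw [Nat.Prime.coprime_iff_not_dvd hp, hiff]
    intro h7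
    have := Nat.le_of_dvd (by omega) h7
    omega
  have hv : ∀ x : POmega F (quadFormMinus (m - 1) F a b), p ∣ orderOf x →
      (η₁ : POmega F (quadFormMinus (m - 1) F a b) → ℂ) x = -1 := by
    intro x hx
    have h4 := Cfsg.Agent.H692.RealOver.defect_zero_vanish η₂.2 p hp (by
      rw [Cfsg.Agent.Blocks.Basic.charDegree_of_eq h2]
      exact ht') hx
    obtain ⟨z, rfl⟩ := QuotientGroup.mk_surjective x
    have hz : p ∣ orderOf z :=
      hx.trans (orderOf_map_dvd (QuotientGroup.mk' (Subgroup.center (Omega F (quadFormMinus (m - 1) F a b)))) z)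
    have h5 := h3 z (fun v hv c => by
      refine no_eig (D := 2 * m) (by omega) hiff ?_ (z := ((z : isometryGroup F (quadFormMinus (m - 1) F a b)) :
        Matrix.GeneralLinearGroup _ F)) ?_ hv c
      · simp only [Fintype.card_sum, Fintype.card_fin]
        omega
      · rw [Subgroup.orderOf_coe, Subgroup.orderOf_coe]
        exact hz)
    linear_combination h5 - h4
  refine ⟨η₁, mem_of_neg_one hM hd η₁ hv, ?_⟩
  rw [Cfsg.Agent.Blocks.Basic.charDegree_of_eq h1]
  -- `s` is even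
  obtain ⟨k, hk⟩ : ∃ k, m - 1 = 2 * k := by
    obtain ⟨j, hj⟩ := hmo
    exact ⟨j, by omega⟩
  have h5 : (Fintype.card F ^ 2 - 1) * s = Fintype.card F ^ 2 * (Fintype.card F ^ (2 * (m - 1)) - 1) := by
    have h6 : 1 ≤ Fintype.card F ^ 2 := Nat.one_le_pow _ _ (by omega)
    have h7 : 1 ≤ Fintype.card F ^ (2 * (m - 1)) := Nat.one_le_pow _ _ (by omega)
    zify [h6, h7]
    exact hs
  obtain ⟨c, hc⟩ : Fintype.card F ^ 2 - 1 ∣ Fintype.card F ^ (2 * k) - 1 := by
    rw [pow_mul]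
    exact Nat.sub_one_dvd_pow_sub_one _ _
  rw [sq_sub', hk, hc] at h5
  have h6 : 0 < Fintype.card F ^ 2 - 1 := by
    have : 1 < Fintype.card F ^ 2 := Nat.one_lt_pow (by norm_num) (by omega)
    omega
  have h7 : s = Fintype.card F ^ 2 * ((Fintype.card F ^ (2 * k) + 1) * c) := by
    apply Nat.eq_of_mul_eq_mul_left h6
    rw [h5]
    ring
  rw [h7]
  exact Dvd.dvd.mul_left (Dvd.dvd.mul_right (ho.pow.add_one).two_dvd _) _

end Cfsg.Agent.H926.EP
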